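import Cfsg.Agent.SpM.Basic
import Cfsg.Agent.Chev.MatFast
import Cfsg.Agent.Chev.MatGL

/-!
Kernel-efficient multiplication of a packed matrix by transposed root elements `x_r(t)ᵀ` of a Chevalley
group over `ZMod p`; a packed representation whose generators are conjugate (by one matrix) to
contragredients of words in root elements gives a homomorphism into the Chevalley group.
-/

set_option autoImplicit false

namespace CL.ThE8

open CL.CGM CL.ChevM CL.WC CL.SpM Matrix Cfsg.Lie Cfsg.Lie.ChevalleyDatum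

noncomputable section

/-- the coefficient `a t ^ e` reduced modulo `p` -/
def coefN (p : ℕ) (a : ℤ) (t e : ℕ) : ℕ :=
  Nat.mod (Nat.mul (Int.toNat (Int.emod a (Int.ofNat p))) (Nat.pow t e)) p

theorem cast_coefN {p : ℕ} (hp : 0 < p) (a : ℤ) (t e : ℕ) :
    ((coefN p a t e : ℕ) : ZMod p) = (a : ZMod p) * (t : ZMod p) ^ e := by
  have e1 : coefN p a t e = ((a % (p : ℤ)).toNat * t ^ e) % p := rfl
  have h0 : (0 : ℤ) ≤ a % (p : ℤ) := Int.emod_nonneg _ (by exact_mod_cast hp.ne')
  have h1 : (((a % (p : ℤ)).toNat : ℕ) : ZMod p) = (a : ZMod p) := by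
    rw [← Int.cast_natCast, Int.toNat_of_nonneg h0, ZMod.intCast_mod]
  rw [e1, ZMod.natCast_mod, Nat.cast_mul, Nat.cast_pow, h1]

theorem coefN_le {p : ℕ} (hp : 0 < p) (a : ℤ) (t e : ℕ) : coefN p a t e ≤ p :=
  (Nat.mod_lt _ hp).le

/-- a combination of rows of `X` -/
def rowC (p W rm X t : ℕ) (c : Col) : ℕ :=
  @List.rec _ (fun _ => ℕ) 0 (fun y _ ih => Nat.add (Nat.mul (coefN p y.2.1 t y.2.2)
    (Nat.land (Nat.shiftRight X (Nat.mul W y.1)) rm)) ih) c

theorem fld_rowC {p w n X t b : ℕ} (hp : 0 < p) (hX : ∀ i, CGM.fld w X i ≤ b) (c : Col)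
    (hc : c.length * (p * b) < 2 ^ w) (i : ℕ) :
    CGM.fld w (rowC p (w * n) (2 ^ (w * n) - 1) X t c) i =
      (c.map fun y => coefN p y.2.1 t y.2.2 * CGM.fld w (CGM.fld (w * n) X y.1) i).sum ∧
    CGM.fld w (rowC p (w * n) (2 ^ (w * n) - 1) X t c) i ≤ c.length * (p * b) := by
  have hrb : ∀ k s, CGM.fld w (CGM.fld (w * n) X k) s ≤ b := by
    intro k s
    by_cases hs : s < n
    · rw [fld_fld _ _ _ _ _ hs]; exact hX _
    · rw [fld_fld_of_ge _ _ _ _ _ (by omega)]; exact Nat.zero_le _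
  induction c generalizing i with
  | nil => simp [rowC]
  | cons y c ih =>
    have hc' : c.length * (p * b) + p * b < 2 ^ w := by
      rw [List.length_cons, Nat.succ_mul] at hc; exact hc
    have ih' := ih (by omega)
    have e : rowC p (w * n) (2 ^ (w * n) - 1) X t (y :: c) = coefN p y.2.1 t y.2.2 *
        ((X >>> (w * n * y.1)) &&& (2 ^ (w * n) - 1)) + rowC p (w * n) (2 ^ (w * n) - 1) X t c := rfl
    have hr : (X >>> (w * n * y.1)) &&& (2 ^ (w * n) - 1) = CGM.fld (w * n) X y.1 := by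
      rw [Nat.and_two_pow_sub_one_eq_mod]; rfl
    have hle : ∀ s, coefN p y.2.1 t y.2.2 * CGM.fld w (CGM.fld (w * n) X y.1) s ≤ p * b := fun s =>
      Nat.mul_le_mul (coefN_le hp _ _ _) (hrb _ s)
    have hs := fun s => fld_smul w (coefN p y.2.1 t y.2.2) s (CGM.fld (w * n) X y.1)
      (fun k => lt_of_le_of_lt (hle k) (by omega))
    rw [e, hr, fld_add, hs, List.map_cons, List.sum_cons, List.length_cons, Nat.succ_mul]
    · have := hle i
      have := (ih' i).2
      exact ⟨by rw [(ih' i).1], by omega⟩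
    · intro k
      have := hle k
      have := (ih' k).2
      rw [hs]; omega

/-- packing of rows -/
def packR (W : ℕ) (f : ℕ → ℕ) (N : ℕ) : ℕ :=
  @Nat.rec (fun _ => ℕ) 0 (fun j ih => Nat.add (Nat.shiftLeft (f j) (Nat.mul W j)) ih) N

theorem packR_eq (W : ℕ) (f : ℕ → ℕ) (N : ℕ) : packR W f N = pack W f N := by
  induction N with
  | zero => rfl
  | succ N ih =>
    have e : packR W f (N + 1) = (f N <<< (W * N)) + packR W f N := rfl
    rw [e, ih, pack, Nat.shiftLeft_eq, add_comm]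

/-- left multiplication by `x_r(t)ᵀ` -/
def step (c : PCtx) (col : ℕ → ℕ → Col) (r t X : ℕ) : ℕ :=
  c.red (packR c.W (fun j => rowC c.p c.W c.rm X t (col r j)) c.n)

/-- left multiplication by the transpose of a word -/
def lw (c : PCtx) (col : ℕ → ℕ → Col) (w : List (ℕ × ℕ)) : ℕ → ℕ :=
  @List.rec _ (fun _ => ℕ → ℕ) (fun X => X) (fun q _ ih X => force (step c col q.1 q.2 X) ih) w

theorem length_entCol (l : ℕ) (E : List (ℕ × ℤ)) (j : ℕ) : (entCol l E j).length = E.length := by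
  induction E generalizing j with
  | nil => rfl
  | cons e E ih =>
    have : entCol l (e :: E) j = (l + e.1, e.2, j) :: entCol l E (j + 1) := rfl
    rw [this, List.length_cons, ih, List.length_cons]

theorem length_corCol (c : ℕ → ℤ) (m : ℕ) : (corCol c m).length = m := by
  induction m with
  | zero => rfl
  | succ m ih =>
    have : corCol c (m + 1) = (m, c m, 1) :: corCol c m := rfl
    rw [this, List.length_cons, ih]

theorem length_ent (T : Fast) (r s : ℕ) : (T.ent r s).length ≤ T.fuel := by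
  unfold Fast.ent
  cases Nat.blt r T.n
  · simp
  · cases Nat.blt s T.n
    · simp
    · exact length_dec _ _

theorem length_col (T : Fast) (r k : ℕ) : (T.col r k).length ≤ T.l + T.fuel + 2 := by
  unfold Fast.col colOf
  have h1 := length_ent T r (Nat.sub k T.l)
  cases Nat.blt r T.n
  · simp
  cases Nat.blt k T.l
  swap
  · simp
  cases Nat.blt (Nat.sub k T.l) T.n
  · simp
  cases Nat.beq (Nat.sub k T.l) r
  swap
  · simp
  cases Nat.beq (Nat.sub k T.l) (T.neg r)
  · simp only [List.length_cons, length_entCol]; omega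
  · simp only [List.length_cons, length_corCol]; omega

/-- reduced codes without bits outside the block -/
def Inv (c : PCtx) (X : ℕ) : Prop := c.Ok X ∧ ∀ i, c.n * c.m ≤ i → CGM.fld c.w X i = 0

theorem inv_of_okb {c : PCtx} (h : c.Good) {X : ℕ} (hX : c.okb X = true) : Inv c X :=
  ⟨PCtx.ok_of_okb h hX, fun _ hi => fld_of_lt (PCtx.lt_of_okb h hX) hi⟩

variable {D : ChevalleyDatum}

/-- the matrix of a code, rows indexed by the Chevalley basis -/
def mI (D : ChevalleyDatum) (c : PCtx) (X : ℕ) : Matrix D.Idx (Fin c.n) (ZMod c.p) :=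
  Matrix.of fun i j => ent (ZMod c.p) c.n c.w X (code D i) j

theorem bv_dot {c : PCtx} [Fact c.p.Prime] (hm : c.m = c.n) (hn : D.rank + D.nroots = c.n) {X : ℕ}
    (hX : Inv c X) (k : ℕ) (i : Fin c.n) :
    bv D (ZMod c.p) k ⬝ᵥ (fun k' => mI D c X k' i) = ent (ZMod c.p) c.n c.w X k i := by
  by_cases hk : k < D.rank + D.nroots
  · obtain ⟨k', rfl⟩ : ∃ k', code D k' = k := by
      by_cases h1 : k < D.rank
      · exact ⟨Sum.inl ⟨k, h1⟩, rfl⟩
      · exact ⟨Sum.inr ⟨k - D.rank, by omega⟩, by simp only [code]; omega⟩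
    rw [bv_code, single_one_dotProduct]; rfl
  · rw [bv_of_ge D (by omega), zero_dotProduct, ent, hX.2]
    · simp
    · have := Nat.mul_le_mul_left c.n (show c.m ≤ k by omega)
      omega

theorem step_spec {c : PCtx} [Fact c.p.Prime] (h : c.Good) (hm : c.m = c.n)
    (hn : D.rank + D.nroots = c.n) {T : Fast} (hT : Agree D T)
    (hb : (T.l + T.fuel + 2) * (c.p * (2 ^ c.a - 1)) < 2 ^ c.w) (r t : ℕ) {X : ℕ} (hX : Inv c X) :
    Inv c (step c T.col r t X) ∧
      mI D c (step c T.col r t X) = (D.x (ZMod c.p) r (t : ZMod c.p))ᵀ * mI D c X := by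
  have hs := PCtx.red_spec h (packR c.W (fun j => rowC c.p c.W c.rm X t (T.col r j)) c.n)
  refine ⟨⟨hs.1, hs.2.1⟩, ?_⟩
  have hp : 0 < c.p := h.2.2.1
  have hrow := fun j => fld_rowC (n := c.n) (t := t) hp hX.1 (T.col r j)
    (lt_of_le_of_lt (Nat.mul_le_mul_right _ (length_col T r j)) hb)
  ext j i
  have hj : code D j < c.n := hn ▸ code_lt D j
  have hlt : c.n * code D j + i < c.n * c.m := by
    have := Nat.mul_le_mul_left c.n (show code D j + 1 ≤ c.m by omega)
    have := i.2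
    rw [mul_add] at *; omega
  have h1 : mI D c (step c T.col r t X) j i =
      (CGM.fld c.w (rowC c.p (c.w * c.n) (2 ^ (c.w * c.n) - 1) X t (T.col r (code D j))) i : ℕ) := by
    show ((CGM.fld c.w (c.red _) (c.n * code D j + i) : ℕ) : ZMod c.p) = _
    rw [hs.2.2 _ hlt, packR_eq, ← fld_fld _ _ _ _ _ i.2]
    show ((CGM.fld c.w (CGM.fld (c.w * c.n) (pack (c.w * c.n) _ _) _) _ : ℕ) : ZMod c.p) = _
    rw [fld_pack, if_pos hj]
    · rfl
    · intro k _
      apply lt_of_fld_eq_zero h.1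
      intro s hs
      show CGM.fld c.w (rowC c.p (c.w * c.n) (2 ^ (c.w * c.n) - 1) X t (T.col r k)) s = 0
      rw [(hrow k s).1]
      apply List.sum_eq_zero
      intro x hx
      obtain ⟨y, _, rfl⟩ := List.mem_map.1 hx
      rw [fld_fld_of_ge _ _ _ _ _ hs, mul_zero]
  have h2 : ((D.x (ZMod c.p) r (t : ZMod c.p))ᵀ * mI D c X) j i =
      (D.x (ZMod c.p) r (t : ZMod c.p) *ᵥ bv D (ZMod c.p) (code D j)) ⬝ᵥ fun k' => mI D c X k' i := by
    rw [bv_code, mulVec_single_one]; rfl
  rw [h1, h2, x_mulVec_bv hT.uniq, hT.col, (hrow _ _).1]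
  generalize T.col r (code D j) = L
  induction L with
  | nil => simp
  | cons y L ih =>
    rw [List.map_cons, List.sum_cons, Nat.cast_add, ih, evC_cons, add_dotProduct, smul_dotProduct,
      bv_dot hm hn hX, Nat.cast_mul, cast_coefN hp, fld_fld _ _ _ _ _ i.2]
    rfl

theorem lw_spec {c : PCtx} [Fact c.p.Prime] (h : c.Good) (hm : c.m = c.n)
    (hn : D.rank + D.nroots = c.n) {T : Fast} (hT : Agree D T)
    (hb : (T.l + T.fuel + 2) * (c.p * (2 ^ c.a - 1)) < 2 ^ c.w) (w : List (ℕ × ℕ)) :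
    ∀ {X : ℕ}, Inv c X → Inv c (lw c T.col w X) ∧ mI D c (lw c T.col w X) =
      (D.wordMat (ZMod c.p) (w.map fun q => (q.1, (q.2 : ZMod c.p))))ᵀ * mI D c X := by
  induction w with
  | nil => intro X hX; exact ⟨hX, by simp [lw]⟩
  | cons q w ih =>
    intro X hX
    have e : lw c T.col (q :: w) X = lw c T.col w (step c T.col q.1 q.2 X) := force_eq _ _
    have h1 := step_spec h hm hn hT hb q.1 q.2 hX
    rw [e]
    refine ⟨(ih h1.1).1, ?_⟩
    rw [(ih h1.1).2, h1.2, List.map_cons, wordMat_cons, transpose_mul, Matrix.mul_assoc]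

theorem exists_unit_word {η : ℕ → ℕ → ℤ} (C : Core D η) {F : Type*} [Field F] (w : List (ℕ × F)) :
    ∃ u ∈ D.group F, (u : Matrix D.Idx D.Idx F) = D.wordMat F w := by
  induction w with
  | nil => exact ⟨1, one_mem _, rfl⟩
  | cons q w ih =>
    obtain ⟨u, hu, e⟩ := ih
    exact ⟨C.xU F q.1 q.2 * u, mul_mem (C.xU_mem_group _ _) hu, by
      rw [Units.val_mul, e, wordMat_cons]; rfl⟩

/-- A packed representation conjugate to the contragredient of words in root elements. -/
theorem exists_hom {p n : ℕ} [Fact p.Prime] {G : Type*} [Group G] (M : MRep p n G)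
    {η : ℕ → ℕ → ℤ} (C : Core D η) (hn : D.rank + D.nroots = n) {T : Fast} (hT : Agree D T)
    (hb : (T.l + T.fuel + 2) * (p * (2 ^ M.a - 1)) < 2 ^ M.w) {A B : ℕ}
    (hA : (M.cx n).okb A = true) (hB : (M.cx n).okb B = true)
    (hAB : Nat.beq ((M.cx n).mul A B) M.one = true) {S : Set ℕ}
    (hS : Subgroup.closure (M.γ '' S) = ⊤)
    (hw : ∀ k ∈ S, ∃ w, Nat.beq ((M.cx n).mul (lw (M.cx n) T.col w A) (M.g k)) A = true) :
    ∃ f : G →* D.group (ZMod p), ∀ g, f g = 1 → M.φ g = 1 := by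
  have hg : (M.cx n).Good := M.good
  haveI : Fact (M.cx n).p.Prime := ‹Fact p.Prime›
  let e : D.Idx ≃ Fin n := finSumFinEquiv.trans (finCongr hn)
  have he : ∀ i, (e i : ℕ) = code D i := by rintro (i | i) <;> simp [e, code]
  have hmI : ∀ X, mI D (M.cx n) X = (M.tm n X).submatrix e id := by
    intro X; ext i j; simp only [mI, of_apply, submatrix_apply, ← he]; rfl
  have h1 : M.tm n A * M.tm n B = 1 := by
    have := PCtx.toMat_mul hg (PCtx.ok_of_okb hg hA) (PCtx.ok_of_okb hg hB)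
    rw [Nat.eq_of_beq_eq_true hAB] at this
    exact this.symm.trans (toMat_idCode _ hg.1)
  have h2 : M.tm n B * M.tm n A = 1 := mul_eq_one_comm.1 h1
  set P : Matrix D.Idx (Fin n) (ZMod p) := (M.tm n A).submatrix e id with hP
  set Q : Matrix (Fin n) D.Idx (ZMod p) := (M.tm n B).submatrix id e with hQ
  have hPQ : P * Q = 1 := by
    rw [hP, hQ, ← submatrix_mul _ _ _ id _ Function.bijective_id, h1, submatrix_one_equiv]
  have hQP : Q * P = 1 := by
    rw [hP, hQ, submatrix_mul_equiv, h2]; rfl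
  let f0 : G →* Matrix D.Idx D.Idx (ZMod p) :=
    { toFun := fun g => (P * M.mat g⁻¹ * Q)ᵀ
      map_one' := by rw [inv_one, M.mat_one, Matrix.mul_one, hPQ, transpose_one]
      map_mul' := fun x y => by
        rw [← transpose_mul, _root_.mul_inv_rev, M.mat_mul]
        congr 1
        simp only [Matrix.mul_assoc]
        rw [← Matrix.mul_assoc Q P, hQP, Matrix.one_mul] }
  have hmem : ∀ g, f0.toHomUnits g ∈ D.group (ZMod p) := by
    intro g
    have hg' : g ∈ (D.group (ZMod p)).comap f0.toHomUnits := by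
      refine (?_ : (⊤ : Subgroup G) ≤ _) (Subgroup.mem_top g)
      rw [← hS, Subgroup.closure_le]
      rintro _ ⟨k, hk, rfl⟩
      obtain ⟨w, hw⟩ := hw k hk
      obtain ⟨u, hu, eu⟩ := exists_unit_word C (w.map fun q => (q.1, (q.2 : ZMod p)))
      have h3 := lw_spec (D := D) (c := M.cx n) hg rfl hn hT hb w (inv_of_okb hg hA)
      have h4 := (M.mul_spec n h3.1.1 (x := M.γ k) (M.hg k)).2
      rw [Nat.eq_of_beq_eq_true hw] at h4
      have h5 : P = (u : Matrix D.Idx D.Idx (ZMod p))ᵀ * P * M.mat (M.γ k) := by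
        have h6 := h3.2
        rw [hmI, hmI] at h6
        rw [eu]
        refine Eq.trans ?_ (congrArg (· * M.mat (M.γ k)) h6)
        rw [hP, h4, submatrix_mul _ _ _ id _ Function.bijective_id]; rfl
      have h7 : f0.toHomUnits (M.γ k) = u := by
        ext1
        show (P * M.mat (M.γ k)⁻¹ * Q)ᵀ = _
        rw [h5, Matrix.mul_assoc _ (M.mat _) (M.mat _), ← M.mat_mul, mul_inv_cancel, M.mat_one, Matrix.mul_one,
          Matrix.mul_assoc, hPQ, Matrix.mul_one, transpose_transpose]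
      exact Subgroup.mem_comap.2 (h7 ▸ hu)
    exact hg'
  refine ⟨f0.toHomUnits.codRestrict _ hmem, fun g h => ?_⟩
  have h3 : (P * M.mat g⁻¹ * Q)ᵀ = 1 := 
    congrArg (fun u : D.group (ZMod p) => (u.1 : Matrix D.Idx D.Idx (ZMod p))) h
  have h4 : P * M.mat g⁻¹ * Q = 1 := by rw [← transpose_transpose (P * _ * Q), h3, transpose_one]
  have h5 : M.mat g⁻¹ = 1 := by
    calc M.mat g⁻¹ = (Q * P) * M.mat g⁻¹ * (Q * P) := by rw [hQP, Matrix.one_mul, Matrix.mul_one]
      _ = Q * (P * M.mat g⁻¹ * Q) * P := by simp only [Matrix.mul_assoc]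
      _ = 1 := by rw [h4, Matrix.mul_one, hQP]
  have h6 : M.φ g⁻¹ = 1 := Units.ext h5
  rwa [map_inv, inv_eq_one] at h6

end

end CL.ThE8
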